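import Groth.Agent.LefX.K158.GrReg
import Groth.Agent.Divis.RegSpread
import Groth.Agent.Models.RegSpread
import Groth.Prelude.Def_CInt

/-!
# Spreading out the condition of being generated by a regular sequence
-/

set_option autoImplicit false
universe u

open RingTheory.Sequence

namespace K158.GrCI

open K158.GrReg Groth.Agent

variable {A : Type u} [CommRing A]

/-- An ideal regular at `q` is regular near `q`. -/
theorem exists_regAt [IsNoetherianRing A] (J q : Ideal A) [q.IsPrime]
    (h : CInt.IsRegularIdeal (J.map (algebraMap A (Localization.AtPrime q)))) :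
    ∃ (h : ℕ) (x : Fin h → J) (g : A), g ∉ q ∧ RegAt x g := by
  obtain ⟨rs, hrs, hJ⟩ := h
  let L := Localization.AtPrime q
  have hmem : ∀ i : Fin rs.length, ∃ a : J, Associated (rs.get i) (algebraMap A L a) := by
    intro i
    have h1 : rs.get i ∈ J.map (algebraMap A L) := by
      rw [← hJ]
      exact Ideal.subset_span (List.get_mem rs i)
    obtain ⟨⟨a, s⟩, ha⟩ := (IsLocalization.mem_map_algebraMap_iff q.primeCompl L).1 h1
    exact ⟨a, (IsLocalization.map_units L s).unit, ha⟩
  choose x hx using hmem
  have hreg : IsWeaklyRegular L ((List.ofFn fun i => (x i : A)).map (algebraMap A L)) := by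
    refine Models.RegSpread.isWeaklyRegular_of_forall₂_associated ?_ hrs.1
    rw [List.map_ofFn]
    nth_rewrite 1 [← List.ofFn_get rs]
    rw [List.forall₂_iff_get]
    refine ⟨by simp, fun i h1 h2 => ?_⟩
    simp only [List.get_ofFn]
    exact hx _
  have hspan : J.map (algebraMap A L) =
      (Ideal.span (Set.range fun i => (x i : A))).map (algebraMap A L) := by
    rw [← hJ, Ideal.map_span, ← Set.range_comp, Ideal.ofList]
    apply le_antisymm
    · rw [Ideal.span_le]
      intro r hr
      obtain ⟨i, rfl⟩ := List.get_of_mem hr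
      obtain ⟨u, hu⟩ := (hx i).symm
      rw [← hu]
      exact Ideal.mul_mem_right _ _ (Ideal.subset_span ⟨i, rfl⟩)
    · rw [Ideal.span_le]
      rintro _ ⟨i, rfl⟩
      obtain ⟨u, hu⟩ := hx i
      change algebraMap A L (x i) ∈ Ideal.span {r | r ∈ rs}
      rw [← hu]
      exact Ideal.mul_mem_right _ _ (Ideal.subset_span (List.get_mem rs i))
  obtain ⟨f, hf, Hf⟩ := Divis.RegSpread.exists_isWeaklyRegular_of_atPrime'.{u, u, u} q L _ hreg
  obtain ⟨g, hg, Hg⟩ := Divis.RegSpread.exists_map_eq_of_atPrime.{u, u, u} q L J _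
    (IsNoetherian.noetherian J) (IsNoetherian.noetherian _) hspan
  refine ⟨rs.length, x, f * g, fun hfg => (‹q.IsPrime›.mem_or_mem hfg).elim hf hg, ?_, ?_⟩
  · intro y hy
    let W := Localization.Away (f * g)
    have hu : IsUnit (algebraMap A W (f * g)) :=
      IsLocalization.map_units W (⟨f * g, 1, by simp⟩ : Submonoid.powers (f * g))
    rw [map_mul] at hu
    have h1 := Hg W (algebraMap A W) (isUnit_of_mul_isUnit_right hu)
    have h2 := Ideal.mem_map_of_mem (algebraMap A W) hy
    rw [h1] at h2
    obtain ⟨_, ⟨N, rfl⟩, h5⟩ := (IsLocalization.algebraMap_mem_map_algebraMap_iff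
      (Submonoid.powers (f * g)) W _ _).1 h2
    exact ⟨N, h5⟩
  · intro C _ _ _ hu
    rw [map_mul] at hu
    have h1 := Hf C (isUnit_of_mul_isUnit_left hu)
    rwa [List.map_ofFn] at h1

end K158.GrCI
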