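import Groth.Agent.LefX.K158.GrReg
import Groth.Agent.LocCoh.K171.ReesDim
import Groth.Agent.S2092
import Groth.Agent.S0603
import Groth.Agent.EGA4.K113.GoodCM

/-!
# The depth of the associated graded ring at the primes where the ideal is regular
-/

set_option autoImplicit false
universe u

open RingTheory.Sequence

namespace K158.GrDepthCI

open K177.GrRees K158.GrReg Groth.Agent

theorem depth_quot_localization {S : Type u} [CommRing S] (J : Ideal S) (p : Ideal S) [p.IsPrime] :
    LocCoh.depth (Localization.AtPrime p)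
      (Localization.AtPrime p ⧸ J.map (algebraMap S (Localization.AtPrime p))) =
    LocCoh.depth (Localization.AtPrime p) (LocalizedModule p.primeCompl (S ⧸ J)) := by
  have h := Groth.Agent.Ega4dB.DepthOpen.depth_eq_of_isLocalizedModule (q := p)
    (M := S ⧸ J) (Localization.AtPrime p)
    (Submodule.toLocalizedQuotient' (Localization.AtPrime p) p.primeCompl
      (Algebra.linearMap S (Localization.AtPrime p)) J)
  rw [← h, Ideal.localized'_eq_map]

section Abs

variable {A S B : Type u} [CommRing A] [CommRing S] [CommRing B] [Algebra A S] [Algebra A B]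
  [Algebra S B] [IsScalarTower A S B] {h : ℕ} (x : Fin h → A) (g : A)

/-- The depth of an algebra which, up to powers of `g`, is `S/(x)S` with `x` a regular sequence. -/
theorem depth_eq_abs [IsNoetherianRing S] [Module.Flat A S]
    (hx : ∀ i, algebraMap A B (x i) = 0)
    (hreg : ∀ (C : Type u) [CommRing C] [Algebra A C] [Module.Flat A C], IsUnit (algebraMap A C g) →
      IsWeaklyRegular C (List.ofFn fun i => algebraMap A C (x i)))
    (hsurj : ∀ b : B, ∃ (N : ℕ) (F : S), algebraMap S B F = algebraMap A B (g ^ N) * b)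
    (hker : ∀ F : S, algebraMap S B F = 0 →
      ∃ N : ℕ, algebraMap A S (g ^ N) * F ∈ (Ideal.span (Set.range x)).map (algebraMap A S))
    (P : Ideal B) [P.IsPrime] (hg : algebraMap A B g ∉ P) :
    LocCoh.depth (Localization.AtPrime P) (LocalizedModule P.primeCompl B) + h =
      LocCoh.depth (Localization.AtPrime (P.comap (algebraMap S B)))
        (Localization.AtPrime (P.comap (algebraMap S B))) := by
  let 𝔞 : Ideal S := (Ideal.span (Set.range x)).map (algebraMap A S)
  have h𝔞 : 𝔞 ≤ LinearMap.ker (Algebra.linearMap S B) := by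
    change 𝔞 ≤ RingHom.ker (algebraMap S B)
    rw [Ideal.map_le_iff_le_comap, Ideal.span_le]
    rintro _ ⟨i, rfl⟩
    change algebraMap S B (algebraMap A S (x i)) = 0
    rw [← IsScalarTower.algebraMap_apply]
    exact hx i
  let f : (S ⧸ 𝔞) →ₗ[S] B := Submodule.liftQ 𝔞 (Algebra.linearMap S B) h𝔞
  have hf : ∀ s : S, f (Ideal.Quotient.mk 𝔞 s) = algebraMap S B s := fun _ => rfl
  have hC : ∀ N : ℕ, algebraMap S B (algebraMap A S (g ^ N)) = algebraMap A B (g ^ N) := fun N =>
    (IsScalarTower.algebraMap_apply A S B _).symm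
  have hgN : ∀ N : ℕ, algebraMap S B (algebraMap A S (g ^ N)) ∉ P := by
    intro N hN
    rw [hC, map_pow] at hN
    exact hg (Ideal.IsPrime.mem_of_pow_mem ‹_› _ hN)
  have e1 := Ega4B.LocTransfer.depth_eq f P
    (fun a => by
      obtain ⟨N, F, hF⟩ := hsurj a
      exact ⟨algebraMap A S (g ^ N), F, hgN N, by rw [hF, hC, mul_comm]⟩)
    (fun a => by
      obtain ⟨N, F, hF⟩ := hsurj a
      refine ⟨algebraMap A S (g ^ N), hgN N, Ideal.Quotient.mk 𝔞 F, ?_⟩
      rw [hf, hF, Algebra.smul_def, hC])
    (fun m hm => by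
      obtain ⟨F, rfl⟩ := Ideal.Quotient.mk_surjective m
      obtain ⟨N, hN⟩ := hker F hm
      refine ⟨algebraMap A S (g ^ N), hgN N, ?_⟩
      rw [Algebra.smul_def]
      change Ideal.Quotient.mk 𝔞 (algebraMap A S (g ^ N) * F) = 0
      exact Ideal.Quotient.eq_zero_iff_mem.2 hN)
  rw [← depth_quot_localization] at e1
  rw [e1]
  let P' : Ideal S := P.comap (algebraMap S B)
  have hNL : IsNoetherianRing (Localization.AtPrime P') :=
    IsLocalization.isNoetherianRing P'.primeCompl _ inferInstance
  let rs : List (Localization.AtPrime P') := List.ofFn fun i => algebraMap A _ (x i)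
  have hu : IsUnit (algebraMap A (Localization.AtPrime P') g) := by
    rw [IsScalarTower.algebraMap_apply A S (Localization.AtPrime P')]
    refine IsLocalization.map_units (Localization.AtPrime P') (⟨algebraMap A S g, ?_⟩ : P'.primeCompl)
    intro h1
    exact hgN 1 (by rw [pow_one]; exact h1)
  have hflat : Module.Flat A (Localization.AtPrime P') :=
    Module.Flat.trans A S (Localization.AtPrime P')
  have hreg' : IsWeaklyRegular (Localization.AtPrime P') rs := hreg _ hu
  have hmem : ∀ r ∈ rs, r ∈ IsLocalRing.maximalIdeal (Localization.AtPrime P') := by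
    intro r hr
    obtain ⟨i, rfl⟩ := (List.mem_ofFn' _ _).1 hr
    dsimp only
    rw [IsScalarTower.algebraMap_apply A S (Localization.AtPrime P'),
      IsLocalization.AtPrime.to_map_mem_maximal_iff _ P']
    change algebraMap S B (algebraMap A S (x i)) ∈ P
    rw [← IsScalarTower.algebraMap_apply, hx]
    exact zero_mem _
  have e2 := Ega4B.DepthBasic.depth_quot_ofList_add_length rs hmem (Localization.AtPrime P') hreg'
  have e3 : (Ideal.ofList rs • (⊤ : Submodule (Localization.AtPrime P') (Localization.AtPrime P'))) =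
      𝔞.map (algebraMap S (Localization.AtPrime P')) := by
    have : Ideal.ofList rs = 𝔞.map (algebraMap S (Localization.AtPrime P')) := by
      rw [Ideal.ofList, Ideal.map_map, Ideal.map_span, ← Set.range_comp]
      congr 1
      ext r
      rw [Set.mem_setOf_eq, List.mem_ofFn']
      rfl
    rw [← this]
    simp
  rw [e3, List.length_ofFn] at e2
  exact e2

end Abs

section CM

/-- depth of a localization of a Cohen-Macaulay ring. -/
theorem depth_localization {S : Type u} [CommRing S] [LocCoh.IsCohenMacaulayRing S] (P : Ideal S)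
    [P.IsPrime] : LocCoh.depth (Localization.AtPrime P) (Localization.AtPrime P) = P.height := by
  have h1 := (LocCoh.IsCohenMacaulayRing.isCohenMacaulayLocalRing_localization P).supportDim_eq_depth
  rw [Module.supportDim_self_eq_ringKrullDim, IsLocalization.AtPrime.ringKrullDim_eq_height P] at h1
  exact (WithBot.coe_inj.1 h1).symm

variable {A B : Type u} [CommRing A] [CommRing B] [Algebra A B] {h : ℕ} (x : Fin h → A) (g : A)
  [Algebra (MvPolynomial (Fin h) A) B] [IsScalarTower A (MvPolynomial (Fin h) A) B]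

/-- The height of `p` in terms of the depth at `P` and the transcendence degree. -/
theorem height_le_abs [LocCoh.IsCohenMacaulayLocalRing A] [IsDomain A]
    (hx : ∀ i, algebraMap A B (x i) = 0)
    (hreg : ∀ (C : Type u) [CommRing C] [Algebra A C] [Module.Flat A C], IsUnit (algebraMap A C g) →
      IsWeaklyRegular C (List.ofFn fun i => algebraMap A C (x i)))
    (hsurj : ∀ b : B, ∃ (N : ℕ) (F : MvPolynomial (Fin h) A),
      algebraMap _ B F = algebraMap A B (g ^ N) * b)
    (hker : ∀ F : MvPolynomial (Fin h) A, algebraMap _ B F = 0 →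
      ∃ N : ℕ, algebraMap A (MvPolynomial (Fin h) A) (g ^ N) * F ∈
        (Ideal.span (Set.range x)).map (algebraMap A (MvPolynomial (Fin h) A)))
    (P : Ideal B) [P.IsPrime] (hg : algebraMap A B g ∉ P) (p : Ideal A) [p.IsPrime] [P.LiesOver p]
    (t : ℕ) (ht : Algebra.trdeg (A ⧸ p) (B ⧸ P) ≤ t) :
    p.height ≤ LocCoh.depth (Localization.AtPrime P) (LocalizedModule P.primeCompl B) + t := by
  have hCM : LocCoh.IsCohenMacaulayRing A := K113.GoodCM.isCohenMacaulayRing_of_local ‹_›
  have hCM' : LocCoh.IsCohenMacaulayRing (MvPolynomial (Fin h) A) := S2092.result h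
  have huc : CAlg.IsUniversallyCatenary A := S0603.result A
  let P' : Ideal (MvPolynomial (Fin h) A) := P.comap (algebraMap _ B)
  have hP'p : P'.LiesOver p := ⟨by
    rw [Ideal.LiesOver.over (p := p) (P := P)]
    change P.comap (algebraMap A B) = (P.comap (algebraMap _ B)).comap (algebraMap A _)
    rw [Ideal.comap_comap, ← IsScalarTower.algebraMap_eq]⟩
  have hPP' : P.LiesOver P' := ⟨rfl⟩
  obtain ⟨hq, hp, T, t', e1, e2, e3, e4, -, e5⟩ :=
    CalgA.DimFormula2.exists_dimension_formula p P'
  have e5 := e5 huc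
  have hT : T = h := by
    rw [MvPolynomial.trdeg_of_isDomain] at e3
    simp only [Cardinal.mk_fin, Cardinal.lift_natCast, Nat.cast_inj] at e3
    exact e3.symm
  have e6 := depth_eq_abs x g hx hreg hsurj hker P hg
  change _ = LocCoh.depth (Localization.AtPrime P') (Localization.AtPrime P') at e6
  rw [depth_localization P', e1] at e6
  have ht' : t' ≤ t := by
    let f : (MvPolynomial (Fin h) A ⧸ P') →ₐ[A ⧸ p] (B ⧸ P) :=
      { algebraMap (MvPolynomial (Fin h) A ⧸ P') (B ⧸ P) with
        commutes' := fun a => by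
          obtain ⟨a, rfl⟩ := Ideal.Quotient.mk_surjective a
          change Ideal.Quotient.mk P (algebraMap _ B (algebraMap A _ a)) =
            Ideal.Quotient.mk P (algebraMap A B a)
          rw [← IsScalarTower.algebraMap_apply] }
    have hf : Function.Injective f := by
      intro a b hab
      obtain ⟨a, rfl⟩ := Ideal.Quotient.mk_surjective a
      obtain ⟨b, rfl⟩ := Ideal.Quotient.mk_surjective b
      have h1 : Ideal.Quotient.mk P (algebraMap _ B a) = Ideal.Quotient.mk P (algebraMap _ B b) := hab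
      rw [Ideal.Quotient.eq, ← map_sub] at h1
      exact Ideal.Quotient.eq.2 h1
    have h2 := trdeg_le_of_injective f hf
    rw [e4] at h2
    exact_mod_cast h2.trans ht
  rw [e2]
  have h3 : LocCoh.depth (Localization.AtPrime P) (LocalizedModule P.primeCompl B) ≠ ⊤ := by
    intro h4
    rw [h4, top_add] at e6
    exact ENat.top_ne_natCast _ e6
  obtain ⟨d, hd⟩ := ENat.ne_top_iff_exists.1 h3
  rw [← hd] at e6 ⊢
  have e7 : d + h = hq := by exact_mod_cast e6
  have : hp ≤ d + t := by omega
  exact_mod_cast this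

end CM

section Main

theorem covBy_comap {R S : Type*} [CommRing R] [CommRing S] (f : R →+* S)
    (hf : Function.Surjective f) {P Q : PrimeSpectrum S} (h : P ⋖ Q) :
    PrimeSpectrum.comap f P ⋖ PrimeSpectrum.comap f Q := by
  have hle : ∀ x y : PrimeSpectrum S, PrimeSpectrum.comap f x ≤ PrimeSpectrum.comap f y ↔ x ≤ y := by
    intro x y
    change x.asIdeal.comap f ≤ y.asIdeal.comap f ↔ x.asIdeal ≤ y.asIdeal
    exact Ideal.comap_le_comap_iff_of_surjective f hf _ _
  have hlt : ∀ x y : PrimeSpectrum S, PrimeSpectrum.comap f x < PrimeSpectrum.comap f y ↔ x < y := by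
    intro x y
    rw [lt_iff_le_not_ge, lt_iff_le_not_ge, hle, hle]
  refine ⟨(hlt _ _).2 h.1, fun x h1 h2 => ?_⟩
  have hker : RingHom.ker f ≤ x.asIdeal := by
    have h3 : RingHom.ker f ≤ (PrimeSpectrum.comap f P).asIdeal := Ideal.comap_mono bot_le
    exact h3.trans h1.le
  have hp : (x.asIdeal.map f).IsPrime := Ideal.map_isPrime_of_surjective hf hker
  have hx : PrimeSpectrum.comap f ⟨_, hp⟩ = x := by
    ext1
    change (x.asIdeal.map f).comap f = x.asIdeal
    rw [Ideal.comap_map_of_surjective _ hf, ← RingHom.ker_eq_comap_bot]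
    exact sup_eq_left.mpr hker
  rw [← hx] at h1 h2
  exact h.2 ((hlt _ _).1 h1) ((hlt _ _).1 h2)

variable {A : Type u} [CommRing A] [IsDomain A] [LocCoh.IsCohenMacaulayLocalRing A] {J : Ideal A}
  {B : Type u} [CommRing B] [Algebra A B] (π : reesAlgebra J →ₐ[A] B)
  (hπ : Function.Surjective π) (hker : RingHom.ker π = J.map (algebraMap A (reesAlgebra J)))

include hπ hker in
theorem height_le {h : ℕ} {x : Fin h → J} {g : A} (H : RegAt x g) (P : Ideal B) [P.IsPrime]
    (hg : algebraMap A B g ∉ P) (p : Ideal A) [p.IsPrime] [P.LiesOver p]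
    (t : ℕ) (ht : Algebra.trdeg (A ⧸ p) (B ⧸ P) ≤ t) :
    p.height ≤ LocCoh.depth (Localization.AtPrime P) (LocalizedModule P.primeCompl B) + t := by
  letI alg : Algebra (MvPolynomial (Fin h) A) B := (π.comp (rho x)).toRingHom.toAlgebra
  have halg : ∀ F, algebraMap (MvPolynomial (Fin h) A) B F = π (rho x F) := fun _ => rfl
  have htower : IsScalarTower A (MvPolynomial (Fin h) A) B :=
    IsScalarTower.of_algebraMap_eq fun a => ((π.comp (rho x)).commutes a).symm
  have hk : ∀ f : reesAlgebra J, π f = 0 ↔ f ∈ J.map (algebraMap A (reesAlgebra J)) := by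
    intro f
    rw [← hker]
    rfl
  refine height_le_abs (fun i => (x i : A)) g ?_ H.reg ?_ ?_ P hg p t ht
  · intro i
    rw [← π.commutes, hk]
    exact Ideal.mem_map_of_mem _ (x i).2
  · intro b
    obtain ⟨f, rfl⟩ := hπ b
    obtain ⟨N, F, hF⟩ := H.surj (Ideal.Quotient.mk _ f)
    refine ⟨N, F, ?_⟩
    have h1 : rho x F - algebraMap A (reesAlgebra J) (g ^ N) * f ∈
        J.map (algebraMap A (reesAlgebra J)) := by
      rw [← Ideal.Quotient.eq, map_mul]
      exact hF
    rw [halg, ← π.commutes, ← map_mul, ← sub_eq_zero, ← map_sub, hk]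
    exact h1
  · intro F hF
    refine H.mem_map F ?_
    rw [halg, hk] at hF
    exact Ideal.Quotient.eq_zero_iff_mem.2 hF

open IsLocalRing Groth.Agent.Ega4B.CatHeight in
include hπ hker in
/-- The depth of the associated graded ring at `P ⋖ Q` is at least two if `J` is regular at `p` and the
height of `q` is at least `3 + ℓ`. -/
theorem two_le_depth (ℓ : ℕ) (hℓ : ringKrullDim (reesAlgebra J ⧸
      (maximalIdeal A).map (algebraMap A (reesAlgebra J))) ≤ ℓ) (P Q : PrimeSpectrum B) (hPQ : P ⋖ Q)
    {h : ℕ} {x : Fin h → J} {g : A} (H : RegAt x g) (hg : algebraMap A B g ∉ P.asIdeal)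
    (hq : ((3 + ℓ : ℕ) : ℕ∞) ≤ (Q.asIdeal.comap (algebraMap A B)).height) :
    (2 : ℕ∞) ≤ LocCoh.depth (Localization.AtPrime P.asIdeal)
      (LocalizedModule P.asIdeal.primeCompl B) := by
  have hCM : LocCoh.IsCohenMacaulayRing A := K113.GoodCM.isCohenMacaulayRing_of_local ‹_›
  have huc : CAlg.IsUniversallyCatenary A := S0603.result A
  let R := reesAlgebra J
  have hftR : Algebra.FiniteType A R := inferInstance
  have hNR : IsNoetherianRing R := Algebra.FiniteType.isNoetherianRing A R
  let p : Ideal A := P.asIdeal.comap (algebraMap A B)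
  let q : Ideal A := Q.asIdeal.comap (algebraMap A B)
  have hPp : P.asIdeal.LiesOver p := ⟨rfl⟩
  let P' : Ideal R := P.asIdeal.comap (π : R →+* B)
  let Q' : Ideal R := Q.asIdeal.comap (π : R →+* B)
  have hP'p : P'.LiesOver p := ⟨by
    change P.asIdeal.comap (algebraMap A B) = (P.asIdeal.comap (π : R →+* B)).comap (algebraMap A R)
    rw [Ideal.comap_comap, π.comp_algebraMap]⟩
  have hQ'q : Q'.LiesOver q := ⟨by
    change Q.asIdeal.comap (algebraMap A B) = (Q.asIdeal.comap (π : R →+* B)).comap (algebraMap A R)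
    rw [Ideal.comap_comap, π.comp_algebraMap]⟩
  have hcov : PrimeSpectrum.comap (π : R →+* B) P ⋖ PrimeSpectrum.comap (π : R →+* B) Q :=
    covBy_comap _ hπ hPQ
  obtain ⟨hP, hp, T, tP, a1, a2, a3, a4, -, a5⟩ :=
    CalgA.DimFormula2.exists_dimension_formula p P'
  obtain ⟨hQ, hq', T', tQ, b1, b2, b3, b4, -, b5⟩ :=
    CalgA.DimFormula2.exists_dimension_formula q Q'
  have a5 := a5 huc
  have b5 := b5 huc
  have hTT : T' = T := by
    rw [a3] at b3
    exact_mod_cast b3.symm
  have htQ : tQ ≤ ℓ := by
    have h1 := K171.ReesDim.trdeg_le J huc Q' q tQ b4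
    exact_mod_cast h1.trans hℓ
  have hcat : CAlg.IsCatenary R := huc.2 R inferInstance
  have c1 := isCatenary_iff.1 hcat ⟨⊥, Ideal.isPrime_bot⟩ (PrimeSpectrum.comap (π : R →+* B) P)
    (PrimeSpectrum.comap (π : R →+* B) Q) bot_le hcov.le
  rw [height_eq_rlen_bot, height_eq_rlen_bot, rlen_eq_one_of_covBy hcov] at c1
  change Q'.height = P'.height + 1 at c1
  rw [a1, b1] at c1
  have c2 : hQ = hP + 1 := by exact_mod_cast c1
  have htP : Algebra.trdeg (A ⧸ p) (B ⧸ P.asIdeal) ≤ tP := by
    rw [← a4]
    let f : (R ⧸ P') →ₐ[A ⧸ p] (B ⧸ P.asIdeal) :=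
      { Ideal.quotientMap P.asIdeal (π : R →+* B) le_rfl with
        commutes' := fun a => by
          obtain ⟨a, rfl⟩ := Ideal.Quotient.mk_surjective a
          change Ideal.Quotient.mk P.asIdeal (π (algebraMap A R a)) =
            Ideal.Quotient.mk P.asIdeal (algebraMap A B a)
          rw [π.commutes] }
    refine trdeg_le_of_surjective f ?_
    intro b
    obtain ⟨b, rfl⟩ := Ideal.Quotient.mk_surjective b
    obtain ⟨r, rfl⟩ := hπ b
    exact ⟨Ideal.Quotient.mk _ r, rfl⟩
  have c3 := height_le π hπ hker H P.asIdeal hg p tP htP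
  change _ ≤ q.height at hq
  rw [b2] at hq
  rw [a2] at c3
  have hq : 3 + ℓ ≤ hq' := by exact_mod_cast hq
  generalize LocCoh.depth (Localization.AtPrime P.asIdeal)
      (LocalizedModule P.asIdeal.primeCompl B) = d at c3 ⊢
  induction d using ENat.recTopCoe with
  | top => exact le_top
  | coe d =>
    have c4 : hp ≤ d + tP := by exact_mod_cast c3
    have : 2 ≤ d := by omega
    exact_mod_cast this

end Main

end K158.GrDepthCI
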