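import Groth.Agent.LefX.K158.GrCI
import Groth.Agent.LefX.K158.GrDepthCI
import Groth.Agent.LefX.K177.GrDepth

/-!
# The depth hypothesis for the associated graded ring of an ideal which is regular at the small primes
-/

set_option autoImplicit false
universe u

open RingTheory.Sequence IsLocalRing

namespace K158.GrMain

open K177.GrRees K158.GrReg Groth.Agent

section Fibre

variable {A : Type u} [CommRing A] (J : Ideal A)

/-- the fibre cone -/
abbrev Fib [IsLocalRing A] : Type u :=
  reesAlgebra J ⧸ (maximalIdeal A).map (algebraMap A (reesAlgebra J))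

/-- The dimension of the fibre cone is at most the number of generators. -/
theorem ringKrullDim_fibre_le [IsLocalRing A] {r : ℕ} (x : Fin r → J)
    (hx : Ideal.span (Set.range fun i => (x i : A)) = J) : ringKrullDim (Fib J) ≤ r := by
  let k := A ⧸ maximalIdeal A
  letI : Field k := Ideal.Quotient.field (maximalIdeal A)
  let R := reesAlgebra J
  let mR := (maximalIdeal A).map (algebraMap A R)
  let f₀ : k →+* R ⧸ mR := Ideal.quotientMap mR (algebraMap A R)
    (Ideal.map_le_iff_le_comap.1 le_rfl)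
  let f : MvPolynomial (Fin r) k →+* R ⧸ mR :=
    MvPolynomial.eval₂Hom f₀ (fun i => Ideal.Quotient.mk mR (rho x (MvPolynomial.X i)))
  have hf : Function.Surjective f := by
    intro y
    obtain ⟨y, rfl⟩ := Ideal.Quotient.mk_surjective y
    obtain ⟨F, rfl⟩ := rho_surjective x hx y
    refine ⟨MvPolynomial.map (Ideal.Quotient.mk (maximalIdeal A)) F, ?_⟩
    have : f.comp (MvPolynomial.map (Ideal.Quotient.mk (maximalIdeal A))) =
        (Ideal.Quotient.mk mR).comp (rho x : MvPolynomial (Fin r) A →+* R) := by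
      apply MvPolynomial.ringHom_ext
      · intro a
        rw [RingHom.comp_apply, MvPolynomial.map_C, MvPolynomial.coe_eval₂Hom,
          MvPolynomial.eval₂_C, RingHom.comp_apply]
        change Ideal.Quotient.mk mR (algebraMap A R a) = Ideal.Quotient.mk mR (rho x (algebraMap A _ a))
        rw [AlgHom.commutes]
      · intro i
        rw [RingHom.comp_apply, MvPolynomial.map_X, MvPolynomial.coe_eval₂Hom,
          MvPolynomial.eval₂_X]
        rfl
    exact congrArg (fun t => t F) this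
  refine (ringKrullDim_le_of_surjective f hf).trans ?_
  rw [MvPolynomial.ringKrullDim_of_isNoetherianRing, ringKrullDim_eq_zero_of_field, zero_add,
    Nat.card_eq_fintype_card, Fintype.card_fin]

/-- The dimension of the fibre cone is a natural number. -/
theorem exists_ringKrullDim_fibre [IsLocalRing A] [IsNoetherianRing A] :
    ∃ ℓ : ℕ, ringKrullDim (Fib J) = ℓ := by
  obtain ⟨r, w, hw⟩ := Submodule.fg_iff_exists_fin_generating_family.1 (IsNoetherian.noetherian J)
  have hmem : ∀ i, w i ∈ J := fun i => hw ▸ Submodule.subset_span ⟨i, rfl⟩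
  have h1 := ringKrullDim_fibre_le J (fun i => (⟨w i, hmem i⟩ : J)) hw
  have hnt : Nontrivial (Fib J) := by
    refine Ideal.Quotient.nontrivial_iff.2 fun htop => ?_
    have h2 : (maximalIdeal A).map (algebraMap A (reesAlgebra J)) ≤
        (maximalIdeal A).comap (K171.ReesDim.co J) := by
      rw [Ideal.map_le_iff_le_comap]
      intro a ha
      rw [Ideal.mem_comap, Ideal.mem_comap, K171.ReesDim.co_algebraMap]
      exact ha
    rw [htop, top_le_iff] at h2
    have h3 : (1 : reesAlgebra J) ∈ (maximalIdeal A).comap (K171.ReesDim.co J) := by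
      rw [h2]; trivial
    rw [Ideal.mem_comap, map_one] at h3
    exact (maximalIdeal A).ne_top_iff_one.1 (Ideal.IsPrime.ne_top inferInstance) h3
  have h2 : (0 : WithBot ℕ∞) ≤ ringKrullDim (Fib J) := ringKrullDim_nonneg_of_nontrivial
  induction h : ringKrullDim (Fib J) using WithBot.recBotCoe with
  | bot => rw [h] at h2; simp at h2
  | coe d =>
    induction d using ENat.recTopCoe with
    | top =>
      rw [h] at h1
      exact absurd (WithBot.coe_le_coe.1 h1 : (⊤ : ℕ∞) ≤ (r : ℕ∞)) (by simp)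
    | coe d => exact ⟨d, rfl⟩

end Fibre

section Main

variable {A : Type u} [CommRing A]

/-- the ideal of the locus where `J` is not generated by a regular sequence -/
def bad (J : Ideal A) : Ideal A := Ideal.span {g | ∃ (h : ℕ) (x : Fin h → J), RegAt x g}

theorem exists_of_not_le {J p : Ideal A} (h : ¬ bad J ≤ p) :
    ∃ (h : ℕ) (x : Fin h → J) (g : A), g ∉ p ∧ RegAt x g := by
  rw [bad, Ideal.span_le, Set.not_subset] at h
  obtain ⟨g, ⟨h, x, hx⟩, hg⟩ := h
  exact ⟨h, x, g, hg, hx⟩

theorem not_bad_le [IsNoetherianRing A] (J q : Ideal A) [q.IsPrime]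
    (h : CInt.IsRegularIdeal (J.map (algebraMap A (Localization.AtPrime q)))) : ¬ bad J ≤ q := by
  obtain ⟨h, x, g, hg, H⟩ := GrCI.exists_regAt J q h
  exact fun hle => hg (hle (Ideal.subset_span ⟨h, x, H⟩))

variable [IsLocalRing A] [IsNoetherianRing A] (J : Ideal A) (hJ : J ≤ maximalIdeal A)
  (hdim : (3 : WithBot ℕ∞) ≤ ringKrullDim (A ⧸ J))
  (hci : ∀ (Q : Ideal (A ⧸ J)) [Q.IsPrime], ((Q.height : ℕ∞) : WithBot ℕ∞) +
    ((J.height : ℕ∞) : WithBot ℕ∞) < 3 + ringKrullDim (Fib J) →
    CInt.IsRegularIdeal (J.map (algebraMap A (Localization.AtPrime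
      (Q.comap (Ideal.Quotient.mk J))))))
  (ℓ : ℕ) (hℓ : ringKrullDim (Fib J) = ℓ)

include hci hℓ in
theorem height_ge_of_bad (q : Ideal A) [q.IsPrime] (hJq : J ≤ q) (hq : bad J ≤ q) :
    ((3 + ℓ : ℕ) : ℕ∞) ≤ q.height := by
  have hQ : (q.map (Ideal.Quotient.mk J)).IsPrime :=
    Ideal.map_isPrime_of_surjective Ideal.Quotient.mk_surjective (by simpa using hJq)
  have hQq : (q.map (Ideal.Quotient.mk J)).comap (Ideal.Quotient.mk J) = q := by
    rw [Ideal.comap_map_of_surjective _ Ideal.Quotient.mk_surjective,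
      ← RingHom.ker_eq_comap_bot, Ideal.mk_ker]
    exact sup_eq_left.mpr hJq
  by_contra hcon
  rw [not_le] at hcon
  refine not_bad_le J _ (hci (q.map (Ideal.Quotient.mk J)) ?_) (hq.trans hQq.ge)
  have h1 := (K171.ReesDim.height_add_height_map_le J q hJq).trans_lt hcon
  rw [hℓ]
  have h2 : (((q.map (Ideal.Quotient.mk J)).height + J.height : ℕ∞) : WithBot ℕ∞) <
      (((3 + ℓ : ℕ) : ℕ∞) : WithBot ℕ∞) := WithBot.coe_lt_coe.2 h1
  push_cast at h2 ⊢
  exact h2

include hJ hdim hci hℓ in
theorem height_ge (q : Ideal A) [q.IsPrime] (hJq : J ≤ q) (hq : bad J * maximalIdeal A ≤ q) :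
    ((3 + ℓ : ℕ) : ℕ∞) ≤ q.height := by
  rcases (Ideal.IsPrime.mul_le ‹_›).1 hq with h | h
  · exact height_ge_of_bad J hci ℓ hℓ q hJq h
  obtain rfl : q = maximalIdeal A :=
    le_antisymm (IsLocalRing.le_maximalIdeal (Ideal.IsPrime.ne_top ‹_›)) h
  by_cases hb : bad J ≤ maximalIdeal A
  · exact height_ge_of_bad J hci ℓ hℓ _ hJq hb
  obtain ⟨h, x, g, hg, H⟩ := exists_of_not_le hb
  have hu : IsUnit g := by
    by_contra hn
    exact hg ((mem_maximalIdeal _).2 hn)
  have hspan : Ideal.span (Set.range fun i => (x i : A)) = J := by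
    apply le_antisymm
    · rw [Ideal.span_le]
      rintro _ ⟨i, rfl⟩
      exact (x i).2
    · intro y hy
      obtain ⟨N, hN⟩ := H.span y hy
      exact (Ideal.unit_mul_mem_iff_mem _ (hu.pow N)).1 hN
  have hreg : IsWeaklyRegular A (List.ofFn fun i => (x i : A)) := H.reg A hu
  have hof : Ideal.ofList (List.ofFn fun i => (x i : A)) = J := by
    refine Eq.trans ?_ hspan
    rw [Ideal.ofList]
    congr 1
    ext r
    rw [Set.mem_setOf_eq, List.mem_ofFn']
  have hreg' : IsRegular A (List.ofFn fun i => (x i : A)) := by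
    refine ⟨hreg, fun htop => ?_⟩
    rw [hof] at htop
    have : J = ⊤ := by
      have h1 : J • (⊤ : Submodule A A) = J := by simp
      rw [← h1]
      exact htop.symm
    rw [this, top_le_iff] at hJ
    exact (Ideal.IsPrime.ne_top (inferInstance : (maximalIdeal A).IsPrime)) hJ
  have h1 := ringKrullDim_add_length_eq_ringKrullDim_of_isRegular _ hreg'
  rw [hof, List.length_ofFn, ← IsLocalRing.maximalIdeal_height_eq_ringKrullDim (R := A)] at h1
  have h2 := ringKrullDim_fibre_le J x hspan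
  rw [hℓ] at h2
  have h3 : ((((3 + ℓ : ℕ) : ℕ∞)) : WithBot ℕ∞) ≤ (((maximalIdeal A).height : ℕ∞) : WithBot ℕ∞) := by
    rw [← h1]
    push_cast
    exact add_le_add hdim h2
  exact WithBot.coe_le_coe.1 h3

omit [IsLocalRing A] [IsNoetherianRing A] in
theorem exists_prime_height_zero (I : Ideal A) (hI : I ≠ ⊤) :
    ∃ P : Ideal A, P.IsPrime ∧ I ≤ P ∧ (P.map (Ideal.Quotient.mk I)).height = 0 := by
  have : Nontrivial (A ⧸ I) := Ideal.Quotient.nontrivial_iff.2 hI
  obtain ⟨M, hM⟩ := Ideal.exists_maximal (A ⧸ I)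
  have hMp : M.IsPrime := hM.isPrime
  obtain ⟨P, hP, -⟩ := Ideal.exists_minimalPrimes_le (I := ⊥) (J := M) bot_le
  have hPp : P.IsPrime := hP.1.1
  refine ⟨P.comap (Ideal.Quotient.mk I), inferInstance, ?_, ?_⟩
  · intro y hy
    rw [Ideal.mem_comap, Ideal.Quotient.eq_zero_iff_mem.2 hy]
    exact zero_mem _
  · rw [Ideal.map_comap_of_surjective _ Ideal.Quotient.mk_surjective]
    exact Ideal.height_eq_zero_iff.2 hP

include hJ hdim hci in
/-- there is a prime containing `J` but not the bad locus -/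
theorem exists_prime [IsDomain A] (huc : CAlg.IsUniversallyCatenary A) :
    ∃ p : Ideal A, p.IsPrime ∧ J ≤ p ∧ ¬ bad J * maximalIdeal A ≤ p := by
  obtain ⟨ℓ, hℓ⟩ := exists_ringKrullDim_fibre J
  let R := reesAlgebra J
  let JR := J.map (algebraMap A R)
  have hnt : JR ≠ ⊤ := by
    intro htop
    have h2 : JR ≤ (maximalIdeal A).comap (K171.ReesDim.co J) := by
      rw [Ideal.map_le_iff_le_comap]
      intro a ha
      rw [Ideal.mem_comap, Ideal.mem_comap, K171.ReesDim.co_algebraMap]
      exact hJ ha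
    rw [htop, top_le_iff] at h2
    have h3 : (1 : reesAlgebra J) ∈ (maximalIdeal A).comap (K171.ReesDim.co J) := by
      rw [h2]; trivial
    rw [Ideal.mem_comap, map_one] at h3
    exact (maximalIdeal A).ne_top_iff_one.1 (Ideal.IsPrime.ne_top inferInstance) h3
  obtain ⟨P, hPp, hJR, hP0⟩ := exists_prime_height_zero JR hnt
  have h1 := K171.ReesDim.height_comap_le J huc P hJR
  rw [hP0] at h1
  let p : Ideal A := P.comap (algebraMap A R)
  have hJp : J ≤ p := Ideal.map_le_iff_le_comap.1 hJR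
  refine ⟨p, inferInstance, hJp, fun hle => ?_⟩
  have h3 := height_ge J hJ hdim hci ℓ hℓ p hJp hle
  have h4 : ((p.height : ℕ∞) : WithBot ℕ∞) ≤ (ℓ : WithBot ℕ∞) := by
    have h5 : ringKrullDim (reesAlgebra J ⧸ (maximalIdeal A).map (algebraMap A (reesAlgebra J))) =
      ℓ := hℓ
    rw [h5] at h1
    simpa using h1
  have h5 : p.height ≤ (ℓ : ℕ∞) := WithBot.coe_le_coe.1 h4
  have h6 : ((3 + ℓ : ℕ) : ℕ∞) ≤ (ℓ : ℕ∞) := h3.trans h5
  have h7 : 3 + ℓ ≤ ℓ := by exact_mod_cast h6
  omega

include hJ hdim hci in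
/-- **The depth hypothesis.** -/
theorem depthHyp_gen [IsDomain A] [LocCoh.IsCohenMacaulayLocalRing A] {B : Type u} [CommRing B]
    [Algebra A B] (π : reesAlgebra J →ₐ[A] B) (hπ : Function.Surjective π)
    (hker : RingHom.ker π = J.map (algebraMap A (reesAlgebra J))) :
    K177.GrDepth.DepthHyp B ((bad J * maximalIdeal A).map (algebraMap A B)) := by
  obtain ⟨ℓ, hℓ⟩ := exists_ringKrullDim_fibre J
  intro P Q hP hQ hPQ
  have hJQ : ∀ I : Ideal B, J ≤ I.comap (algebraMap A B) := by
    intro I y hy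
    have h0 : algebraMap A B y = 0 := by
      rw [← π.commutes]
      change algebraMap A (reesAlgebra J) y ∈ RingHom.ker π
      rw [hker]
      exact Ideal.mem_map_of_mem _ hy
    rw [Ideal.mem_comap, h0]
    exact zero_mem _
  have hb : ¬ bad J ≤ P.asIdeal.comap (algebraMap A B) := by
    intro hle
    apply hP
    rw [Ideal.map_le_iff_le_comap]
    exact (Ideal.IsPrime.mul_le inferInstance).2 (Or.inl hle)
  obtain ⟨h, x, g, hg, H⟩ := exists_of_not_le hb
  have hq := height_ge J hJ hdim hci ℓ hℓ (Q.asIdeal.comap (algebraMap A B)) (hJQ _)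
    (Ideal.map_le_iff_le_comap.1 hQ)
  exact GrDepthCI.two_le_depth π hπ hker ℓ hℓ.le P Q hPQ H hg hq

include hJ hdim hci in
/-- **The depth hypothesis for the associated graded ring.** -/
theorem depthHyp [IsDomain A] [LocCoh.IsCohenMacaulayLocalRing A] :
    K177.GrDepth.DepthHyp (reesAlgebra J ⧸ J.map (algebraMap A (reesAlgebra J)))
      ((bad J * maximalIdeal A).map
        (algebraMap A (reesAlgebra J ⧸ J.map (algebraMap A (reesAlgebra J))))) :=
  depthHyp_gen J hJ hdim hci (Ideal.Quotient.mkₐ A _) (Ideal.Quotient.mkₐ_surjective A _)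
    (Ideal.Quotient.mkₐ_ker A _)

end Main

end K158.GrMain
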