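import Groth.Agent.LefX.K177.GrRees
import Groth.Agent.Sga67.BlowReg
import Groth.Agent.Ega4B.LocTransfer
import Groth.Agent.Ega4dB.DepthOpen
import Mathlib.RingTheory.Polynomial.Basic
import Mathlib.RingTheory.Regular.RegularSequence
import Mathlib.RingTheory.MvPolynomial.Homogeneous

/-!
# The associated graded ring along a regular sequence
-/

set_option autoImplicit false
universe u

open MvPolynomial RingTheory.Sequence

namespace K158.GrReg

open K177.GrRees Groth.Agent

variable {A : Type u} [CommRing A] {J : Ideal A} {h : ℕ} (x : Fin h → J) (g : A)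

/-- The images in `A_g` of the elements `x i` of `J` form a regular sequence generating `J_g`. -/
structure RegAt : Prop where
  span : ∀ y ∈ J, ∃ N : ℕ, g ^ N * y ∈ Ideal.span (Set.range fun i => (x i : A))
  reg : ∀ (C : Type u) [CommRing C] [Algebra A C] [Module.Flat A C], IsUnit (algebraMap A C g) →
    IsWeaklyRegular C (List.ofFn fun i => algebraMap A C (x i))

theorem prod_monomial {ι : Type*} (s : Finset ι) (u : ι → ℕ) (c : ι → A) :
    ∏ i ∈ s, Polynomial.monomial (u i) (c i) =
      Polynomial.monomial (∑ i ∈ s, u i) (∏ i ∈ s, c i) := by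
  classical
  induction s using Finset.induction_on with
  | empty => rfl
  | insert a s ha ih =>
    rw [Finset.prod_insert ha, Finset.sum_insert ha, Finset.prod_insert ha, ih,
      Polynomial.monomial_mul_monomial]

theorem rho_coe (F : MvPolynomial (Fin h) A) : ((rho x F : reesAlgebra J) : Polynomial A) =
    aeval (fun i => Polynomial.monomial 1 (x i : A)) F := by
  have : (reesAlgebra J).val.comp (rho x) = aeval (fun i => Polynomial.monomial 1 (x i : A)) := by
    apply MvPolynomial.algHom_ext
    intro i
    rw [aeval_X]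
    exact rho_X x i
  exact congrArg (fun t => t F) this

theorem ev_eq (n : ℕ) (F : MvPolynomial (Fin h) A) :
    ev x n F = MvPolynomial.eval (fun i => (x i : A)) (homogeneousComponent n F) := by
  induction F using MvPolynomial.induction_on' with
  | monomial u c =>
    rw [ev, rho_coe, aeval_monomial, homogeneousComponent_of_mem (isHomogeneous_monomial c rfl),
      Finsupp.prod_fintype _ _ (by simp)]
    simp_rw [Polynomial.monomial_pow, one_mul]
    rw [prod_monomial, Polynomial.algebraMap_eq, Polynomial.C_mul_monomial,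
      Polynomial.coeff_monomial]
    have h1 : ∑ i, u i = u.degree := by rw [Finsupp.degree_eq_sum]
    rw [h1]
    split_ifs with h2 h3 h3
    · rw [eval_monomial, Finsupp.prod_fintype _ _ (by simp)]
    · exact absurd h2.symm h3
    · exact absurd h3.symm h2
    · rw [map_zero]
  | add p q hp hq => rw [ev_add, hp, hq, map_add, map_add]

variable {x g}

/-- quasi-regularity -/
theorem RegAt.coeff_mem (H : RegAt x g) (F : MvPolynomial (Fin h) A) (hF : toGr x F = 0)
    (d : Fin h →₀ ℕ) : ∃ N : ℕ, g ^ N * F.coeff d ∈ Ideal.span (Set.range fun i => (x i : A)) := by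
  let φ := algebraMap A (Localization.Away g)
  have hu : IsUnit (algebraMap A (Localization.Away g) g) :=
    IsLocalization.map_units (Localization.Away g) (⟨g, 1, by simp⟩ : Submonoid.powers g)
  have hflat : Module.Flat A (Localization.Away g) := IsLocalization.flat _ (Submonoid.powers g)
  have hq := Sga67.BlowReg.isQuasiRegular_of_isWeaklyRegular _ (H.reg (Localization.Away g) hu)
  have hspan : Ideal.span (Set.range fun i => φ (x i)) =
      (Ideal.span (Set.range fun i => (x i : A))).map φ := by
    rw [Ideal.map_span, ← Set.range_comp]; rfl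
  have hJ : J.map φ = (Ideal.span (Set.range fun i => (x i : A))).map φ := by
    apply le_antisymm
    · rw [Ideal.map_le_iff_le_comap]
      intro y hy
      obtain ⟨N, hN⟩ := H.span y hy
      rw [Ideal.mem_comap]
      have h2 := Ideal.mem_map_of_mem φ hN
      rw [map_mul, map_pow] at h2
      exact (Ideal.unit_mul_mem_iff_mem _ (hu.pow N)).1 h2
    · apply Ideal.map_mono
      rw [Ideal.span_le]
      rintro _ ⟨i, rfl⟩
      exact (x i).2
  have h1 := (toGr_eq_zero_iff x F).1 hF d.degree
  rw [ev_eq] at h1
  have h2 := Ideal.mem_map_of_mem φ h1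
  rw [Ideal.map_pow, hJ, ← hspan] at h2
  have h3 : φ (MvPolynomial.eval (fun i => (x i : A)) (homogeneousComponent d.degree F)) =
      MvPolynomial.eval (fun i => φ (x i)) ((homogeneousComponent d.degree F).map φ) := by
    rw [eval_map, eval₂_comp]
    rfl
  rw [h3] at h2
  have h4 := hq d.degree _ ((homogeneousComponent_isHomogeneous _ _).map φ) h2 d
  rw [coeff_map, coeff_homogeneousComponent, if_pos rfl, hspan] at h4
  obtain ⟨_, ⟨N, rfl⟩, h5⟩ := (IsLocalization.algebraMap_mem_map_algebraMap_iff (Submonoid.powers g)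
    (Localization.Away g) _ _).1 h4
  exact ⟨N, h5⟩

theorem RegAt.mem_map (H : RegAt x g) (F : MvPolynomial (Fin h) A) (hF : toGr x F = 0) :
    ∃ N : ℕ, C (g ^ N) * F ∈ (Ideal.span (Set.range fun i => (x i : A))).map
      (C : A →+* MvPolynomial (Fin h) A) := by
  classical
  choose N hN using H.coeff_mem F hF
  refine ⟨F.support.sup N, ?_⟩
  rw [MvPolynomial.mem_map_C_iff]
  intro d
  rw [coeff_C_mul]
  by_cases hd : d ∈ F.support
  · obtain ⟨k, hk⟩ := Nat.exists_eq_add_of_le (Finset.le_sup (f := N) hd)
    rw [hk, pow_add, mul_assoc, mul_comm (g ^ k), ← mul_assoc]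
    exact Ideal.mul_mem_right _ _ (hN d)
  · rw [notMem_support_iff.1 hd, mul_zero]
    exact Ideal.zero_mem _

theorem RegAt.pow_mem (H : RegAt x g) (n : ℕ) (c : A) (hc : c ∈ J ^ n) :
    ∃ N : ℕ, g ^ N * c ∈ Ideal.span (Set.range fun i => (x i : A)) ^ n := by
  let φ := algebraMap A (Localization.Away g)
  have hu : IsUnit (algebraMap A (Localization.Away g) g) :=
    IsLocalization.map_units (Localization.Away g) (⟨g, 1, by simp⟩ : Submonoid.powers g)
  have hJ : J.map φ ≤ (Ideal.span (Set.range fun i => (x i : A))).map φ := by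
    rw [Ideal.map_le_iff_le_comap]
    intro y hy
    obtain ⟨N, hN⟩ := H.span y hy
    rw [Ideal.mem_comap]
    have h2 := Ideal.mem_map_of_mem φ hN
    rw [map_mul, map_pow] at h2
    exact (Ideal.unit_mul_mem_iff_mem _ (hu.pow N)).1 h2
  have h1 := Ideal.mem_map_of_mem φ hc
  rw [Ideal.map_pow] at h1
  have h2 := Ideal.pow_right_mono hJ n h1
  rw [← Ideal.map_pow] at h2
  obtain ⟨_, ⟨N, rfl⟩, h5⟩ := (IsLocalization.algebraMap_mem_map_algebraMap_iff
    (Submonoid.powers g) (Localization.Away g) _ _).1 h2
  exact ⟨N, h5⟩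

theorem RegAt.surj (H : RegAt x g) (b : Gr J) :
    ∃ (N : ℕ) (F : MvPolynomial (Fin h) A), toGr x F = algebraMap A (Gr J) (g ^ N) * b := by
  classical
  obtain ⟨f, rfl⟩ := Ideal.Quotient.mk_surjective b
  choose N hN using fun n => H.pow_mem n ((f : Polynomial A).coeff n) (f.2 n)
  let M := (f : Polynomial A).support.sup N
  let J' := Ideal.span (Set.range fun i => (x i : A))
  let x' : Fin h → J' := fun i => ⟨x i, Ideal.subset_span ⟨i, rfl⟩⟩
  have hf' : Polynomial.C (g ^ M) * (f : Polynomial A) ∈ reesAlgebra J' := by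
    intro n
    rw [Polynomial.coeff_C_mul]
    by_cases hd : n ∈ (f : Polynomial A).support
    · obtain ⟨k, hk⟩ := Nat.exists_eq_add_of_le (Finset.le_sup (f := N) hd)
      change g ^ ((f : Polynomial A).support.sup N) * _ ∈ _
      rw [hk, pow_add, mul_assoc, mul_comm (g ^ k), ← mul_assoc]
      exact Ideal.mul_mem_right _ _ (hN n)
    · rw [Polynomial.notMem_support_iff.1 hd, mul_zero]
      exact Ideal.zero_mem _
  obtain ⟨F, hF⟩ := rho_surjective x' rfl ⟨_, hf'⟩
  refine ⟨M, F, ?_⟩
  change Ideal.Quotient.mk _ (rho x F) = Ideal.Quotient.mk _ (algebraMap A (reesAlgebra J) (g ^ M)) *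
    Ideal.Quotient.mk _ f
  rw [← map_mul]
  congr 1
  apply Subtype.ext
  have h1 := congrArg (fun t : reesAlgebra J' => (t : Polynomial A)) hF
  simp only at h1
  rw [rho_coe] at h1 ⊢
  exact h1

end K158.GrReg
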